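import Mathlib
import Cfsg.Agent.Helper7.K2M.Defs
import Cfsg.Agent.Helper7.K2M.Defs2

set_option autoImplicit false
set_option linter.unusedSectionVars false
set_option linter.unusedVariables false

/-! # S5692, case `k = 2` with HYPERBOLIC blocks (`O_2^+(q) wr S_t` in `Ω_{2t}^+(q)`): definitions

Route: `departures/helper18_k2p_route.md`.  We reuse the anisotropy-free vocabulary of helper7's `Cfsg.Agent.K2M`
(`OG`, `IsBlk`, `SuppIn`, `StabD`, `HasMO`, `InA`, `SiegOut`) and helper3's block model (`binj`, `bproj`, `Dblk`).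
`BM0 Q q`: `Q` is the orthogonal sum of `t` copies of the nondegenerate binary form `q` (NO anisotropy);
`BP Q q e f`: moreover `e, f` is a hyperbolic pair of `q`. -/

namespace Cfsg.Agent.K2P

open Matrix Cfsg.Agent.OC2P Cfsg.Agent.Helper28.Sg Cfsg.Agent.Helper28.Spin
  Cfsg.Agent.Helper12.OrthGen Cfsg.Agent.K2M

variable {F : Type*} [Field F] {t : ℕ}

/-- block model data without anisotropy -/
structure BM0 (Q : QuadraticForm F (Fin t × Fin 2 → F)) (q : QuadraticForm F (Fin 2 → F)) : Prop where
  sum : ∀ x, Q x = ∑ i : Fin t, q (bproj i x)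
  ndQ : (QuadraticMap.polarBilin Q).Nondegenerate
  ndq : (QuadraticMap.polarBilin q).Nondegenerate

/-- block model data for hyperbolic blocks: `e, f` is a hyperbolic pair of the binary form `q` -/
structure BP (Q : QuadraticForm F (Fin t × Fin 2 → F)) (q : QuadraticForm F (Fin 2 → F))
    (e f : Fin 2 → F) : Prop extends BM0 Q q where
  qe : q e = 0
  qf : q f = 0
  ef : QuadraticMap.polar ⇑q e f = 1

/-- `M` contains a Siegel element whose centre is a frame vector `e_i` or `f_i` and whose parameter is a nonzero vector of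
`D_i^⊥` -/
def SiegF (Q : QuadraticForm F (Fin t × Fin 2 → F)) (q : QuadraticForm F (Fin 2 → F))
    (e f : Fin 2 → F) (M : Subgroup (OG Q)) : Prop :=
  ∃ (i : Fin t) (u : Fin 2 → F) (w : Fin t × Fin 2 → F) (hu : Q (binj i u) = 0),
    (u = e ∨ u = f) ∧ w ≠ 0 ∧ bproj i w = 0 ∧ w ∈ Rad M (binj i u) hu

end Cfsg.Agent.K2P
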