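import Mathlib
import Cfsg.Agent.Helper18.K2P.Defs

set_option autoImplicit false
set_option linter.unusedSectionVars false
set_option linter.unusedVariables false

/-! # K2P: the block-level rotation and swap of the hyperbolic plane `⟨e, f⟩` (definitions only). -/

namespace Cfsg.Agent.K2P

variable {F : Type*} [Field F]

/-- the rotation `e ↦ ν e`, `f ↦ ν⁻¹ f` of the binary space -/
noncomputable def rotV (q : QuadraticForm F (Fin 2 → F)) (e f : Fin 2 → F) (ν : F) (y : Fin 2 → F) :
    Fin 2 → F :=
  (ν * QuadraticMap.polar ⇑q y f) • e + (ν⁻¹ * QuadraticMap.polar ⇑q y e) • f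

/-- the swap `e ↔ f` of the binary space -/
noncomputable def swpV (q : QuadraticForm F (Fin 2 → F)) (e f : Fin 2 → F) (y : Fin 2 → F) : Fin 2 → F :=
  (QuadraticMap.polar ⇑q y e) • e + (QuadraticMap.polar ⇑q y f) • f

end Cfsg.Agent.K2P
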