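import Mathlib
import Cfsg.Agent.Helper18.K2P.Defs
import Cfsg.Agent.Helper18.K2P.Defs2

set_option autoImplicit false
set_option linter.unusedSectionVars false
set_option linter.unusedVariables false

/-! # K2P, G-BASIS: coordinates in the hyperbolic basis `e, f` of the binary space; `rotV`, `swpV`. -/

namespace Cfsg.Agent.K2P

open Matrix Cfsg.Agent.OC2P Cfsg.Agent.Helper28.Sg Cfsg.Agent.Helper28.Spin
  Cfsg.Agent.Helper12.OrthGen Cfsg.Agent.K2M

variable {F : Type*} [Field F] {t : ℕ} {Q : QuadraticForm F (Fin t × Fin 2 → F)}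
  {q : QuadraticForm F (Fin 2 → F)} {e f : Fin 2 → F}

theorem BASIS.pee (bp : BP Q q e f) : QuadraticMap.polar ⇑q e e = 0 := by
  rw [QuadraticMap.polar_self, bp.qe]; simp

theorem BASIS.pff (bp : BP Q q e f) : QuadraticMap.polar ⇑q f f = 0 := by
  rw [QuadraticMap.polar_self, bp.qf]; simp

theorem BASIS.pfe (bp : BP Q q e f) : QuadraticMap.polar ⇑q f e = 1 := by
  rw [QuadraticMap.polar_comm]; exact bp.ef

/-- `polar` of a combination with `f` -/
theorem BASIS.polar_comb_f (bp : BP Q q e f) (c d : F) :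
    QuadraticMap.polar ⇑q (c • e + d • f) f = c := by
  rw [QuadraticMap.polar_add_left, QuadraticMap.polar_smul_left, QuadraticMap.polar_smul_left,
    bp.ef, BASIS.pff bp]; simp

theorem BASIS.polar_comb_e (bp : BP Q q e f) (c d : F) :
    QuadraticMap.polar ⇑q (c • e + d • f) e = d := by
  rw [QuadraticMap.polar_add_left, QuadraticMap.polar_smul_left, QuadraticMap.polar_smul_left,
    BASIS.pfe bp, BASIS.pee bp]; simp

theorem BASIS.q_comb (bp : BP Q q e f) (c d : F) : q (c • e + d • f) = c * d := by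
  have h : QuadraticMap.polar ⇑q (c • e) (d • f) = c * d := by
    rw [QuadraticMap.polar_smul_left, QuadraticMap.polar_smul_right, bp.ef]; simp
  have h2 : q (c • e + d • f) = q (c • e) + q (d • f) + QuadraticMap.polar ⇑q (c • e) (d • f) := by
    unfold QuadraticMap.polar; ring
  rw [h2, h, QuadraticMap.map_smul, QuadraticMap.map_smul, bp.qe, bp.qf]; simp

theorem BASIS.linInd (bp : BP Q q e f) : LinearIndependent F ![e, f] := by
  rw [LinearIndependent.pair_iff]
  intro s u h
  have h1 := BASIS.polar_comb_f bp s u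
  have h2 := BASIS.polar_comb_e bp s u
  rw [h] at h1 h2
  simp at h1 h2
  exact ⟨h1.symm, h2.symm⟩

theorem BASIS.span (bp : BP Q q e f) (y : Fin 2 → F) : ∃ c d : F, y = c • e + d • f := by
  have hsp := (BASIS.linInd bp).span_eq_top_of_card_eq_finrank (by simp)
  have hy : y ∈ Submodule.span F (Set.range ![e, f]) := by rw [hsp]; trivial
  have hr : Set.range ![e, f] = {e, f} := by
    ext z; simp [eq_comm, or_comm]
  rw [hr, Submodule.mem_span_pair] at hy
  obtain ⟨c, d, h⟩ := hy
  exact ⟨c, d, h.symm⟩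

/-- G-BASIS: coordinates in the hyperbolic basis. -/
theorem BASIS.eq (bp : BP Q q e f) (y : Fin 2 → F) :
    y = (QuadraticMap.polar ⇑q y f) • e + (QuadraticMap.polar ⇑q y e) • f := by
  obtain ⟨c, d, rfl⟩ := BASIS.span bp y
  rw [BASIS.polar_comb_f bp, BASIS.polar_comb_e bp]

/-- G-BASIS: the form in coordinates -/
theorem BASIS.q_eq (bp : BP Q q e f) (y : Fin 2 → F) :
    q y = QuadraticMap.polar ⇑q y f * QuadraticMap.polar ⇑q y e := by
  obtain ⟨c, d, rfl⟩ := BASIS.span bp y
  rw [BASIS.polar_comb_f bp, BASIS.polar_comb_e bp, BASIS.q_comb bp]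

/-- G-BASIS: singular vectors are multiples of `e` or of `f` -/
theorem BASIS.sing (bp : BP Q q e f) {y : Fin 2 → F} (hy : q y = 0) :
    (∃ c : F, y = c • e) ∨ (∃ c : F, y = c • f) := by
  obtain ⟨c, d, rfl⟩ := BASIS.span bp y
  rw [BASIS.q_comb bp] at hy
  rcases mul_eq_zero.mp hy with h | h
  · right; exact ⟨d, by rw [h]; simp⟩
  · left; exact ⟨c, by rw [h]; simp⟩

theorem BASIS.rotV_comb (bp : BP Q q e f) (ν c d : F) :
    rotV q e f ν (c • e + d • f) = (ν * c) • e + (ν⁻¹ * d) • f := by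
  unfold rotV
  rw [BASIS.polar_comb_f bp, BASIS.polar_comb_e bp]

theorem BASIS.swpV_comb (bp : BP Q q e f) (c d : F) :
    swpV q e f (c • e + d • f) = d • e + c • f := by
  unfold swpV
  rw [BASIS.polar_comb_f bp, BASIS.polar_comb_e bp]

theorem BASIS.rotV_e (bp : BP Q q e f) (ν : F) : rotV q e f ν e = ν • e := by
  have := BASIS.rotV_comb bp ν 1 0
  simpa using this

theorem BASIS.rotV_f (bp : BP Q q e f) (ν : F) : rotV q e f ν f = ν⁻¹ • f := by
  have := BASIS.rotV_comb bp ν 0 1
  simpa using this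

theorem BASIS.rotV_add (ν : F) (y y' : Fin 2 → F) :
    rotV q e f ν (y + y') = rotV q e f ν y + rotV q e f ν y' := by
  unfold rotV
  rw [QuadraticMap.polar_add_left, QuadraticMap.polar_add_left]
  module

theorem BASIS.rotV_smul (ν c : F) (y : Fin 2 → F) :
    rotV q e f ν (c • y) = c • rotV q e f ν y := by
  unfold rotV
  rw [QuadraticMap.polar_smul_left, QuadraticMap.polar_smul_left]
  module

theorem BASIS.rotV_zero (ν : F) : rotV q e f ν 0 = 0 := by
  have := BASIS.rotV_smul (q := q) (e := e) (f := f) ν 0 0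
  simpa using this

theorem BASIS.rotV_sub (ν : F) (y y' : Fin 2 → F) :
    rotV q e f ν (y - y') = rotV q e f ν y - rotV q e f ν y' := by
  have h := BASIS.rotV_add (q := q) (e := e) (f := f) ν (y - y') y'
  rw [sub_add_cancel] at h
  rw [h]; abel

theorem BASIS.rotV_one (bp : BP Q q e f) (y : Fin 2 → F) : rotV q e f 1 y = y := by
  have h := BASIS.eq bp y
  unfold rotV
  simp only [inv_one, one_mul]
  exact h.symm

theorem BASIS.rotV_rotV (bp : BP Q q e f) (ν μ : F) (y : Fin 2 → F) :
    rotV q e f ν (rotV q e f μ y) = rotV q e f (ν * μ) y := by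
  obtain ⟨c, d, rfl⟩ := BASIS.span bp y
  rw [BASIS.rotV_comb bp, BASIS.rotV_comb bp, BASIS.rotV_comb bp, mul_inv]
  congr 2 <;> ring

theorem BASIS.q_rotV (bp : BP Q q e f) {ν : F} (hν : ν ≠ 0) (y : Fin 2 → F) :
    q (rotV q e f ν y) = q y := by
  obtain ⟨c, d, rfl⟩ := BASIS.span bp y
  rw [BASIS.rotV_comb bp, BASIS.q_comb bp, BASIS.q_comb bp]
  field_simp

theorem BASIS.polar_rotV (bp : BP Q q e f) {ν : F} (hν : ν ≠ 0) (y y' : Fin 2 → F) :
    QuadraticMap.polar ⇑q (rotV q e f ν y) (rotV q e f ν y') = QuadraticMap.polar ⇑q y y' := by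
  unfold QuadraticMap.polar
  rw [← BASIS.rotV_add, BASIS.q_rotV bp hν, BASIS.q_rotV bp hν, BASIS.q_rotV bp hν]

theorem BASIS.swpV_e (bp : BP Q q e f) : swpV q e f e = f := by
  have := BASIS.swpV_comb bp 1 0
  simpa using this

theorem BASIS.swpV_f (bp : BP Q q e f) : swpV q e f f = e := by
  have := BASIS.swpV_comb bp 0 1
  simpa using this

theorem BASIS.swpV_add (y y' : Fin 2 → F) :
    swpV q e f (y + y') = swpV q e f y + swpV q e f y' := by
  unfold swpV
  rw [QuadraticMap.polar_add_left, QuadraticMap.polar_add_left]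
  module

theorem BASIS.swpV_smul (c : F) (y : Fin 2 → F) :
    swpV q e f (c • y) = c • swpV q e f y := by
  unfold swpV
  rw [QuadraticMap.polar_smul_left, QuadraticMap.polar_smul_left]
  module

theorem BASIS.q_swpV (bp : BP Q q e f) (y : Fin 2 → F) : q (swpV q e f y) = q y := by
  obtain ⟨c, d, rfl⟩ := BASIS.span bp y
  rw [BASIS.swpV_comb bp, BASIS.q_comb bp, BASIS.q_comb bp, mul_comm]

theorem BASIS.swpV_swpV (bp : BP Q q e f) (y : Fin 2 → F) : swpV q e f (swpV q e f y) = y := by
  obtain ⟨c, d, rfl⟩ := BASIS.span bp y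
  rw [BASIS.swpV_comb bp, BASIS.swpV_comb bp]

/-- two vectors of the binary space with the same coordinates are equal -/
theorem BASIS.ext (bp : BP Q q e f) {y y' : Fin 2 → F}
    (h1 : QuadraticMap.polar ⇑q y f = QuadraticMap.polar ⇑q y' f)
    (h2 : QuadraticMap.polar ⇑q y e = QuadraticMap.polar ⇑q y' e) : y = y' := by
  rw [BASIS.eq bp y, BASIS.eq bp y', h1, h2]

theorem BASIS.e_ne (bp : BP Q q e f) : e ≠ 0 := by
  intro h; have := bp.ef; rw [h] at this; simp at this

theorem BASIS.f_ne (bp : BP Q q e f) : f ≠ 0 := by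
  intro h; have := bp.ef; rw [h] at this; simp at this

end Cfsg.Agent.K2P
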