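import Mathlib
import Cfsg.Agent.Helper18.K2P.Defs

set_option autoImplicit false
set_option linter.unusedSectionVars false
set_option linter.unusedVariables false

/-! # S5694, `k = 2` minus blocks (designer helper7), chapter G, piece QB (helper4):
the forms in the block model. -/

namespace Cfsg.Agent.K2P

open Matrix Cfsg.Agent.OC2P Cfsg.Agent.Helper28.Sg Cfsg.Agent.Helper28.Spin
  Cfsg.Agent.Helper12.OrthGen Cfsg.Agent.K2M

variable {F : Type*} [Field F] {t : ℕ} {Q : QuadraticForm F (Fin t × Fin 2 → F)}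
  {q : QuadraticForm F (Fin 2 → F)}

theorem QB.bproj_add (i : Fin t) (x x' : Fin t × Fin 2 → F) :
    bproj i (x + x') = bproj i x + bproj i x' := rfl

theorem QB.bproj_sub (i : Fin t) (x x' : Fin t × Fin 2 → F) :
    bproj i (x - x') = bproj i x - bproj i x' := rfl

theorem QB.bproj_smul (i : Fin t) (c : F) (x : Fin t × Fin 2 → F) :
    bproj i (c • x) = c • bproj i x := rfl

theorem QB.bproj_neg (i : Fin t) (x : Fin t × Fin 2 → F) : bproj i (-x) = - bproj i x := rfl

theorem QB.bproj_zero (i : Fin t) : bproj i (0 : Fin t × Fin 2 → F) = 0 := rfl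

theorem QB.binj_add (i : Fin t) (y y' : Fin 2 → F) : binj i (y + y') = binj i y + binj i y' := by
  funext p
  by_cases h : p.1 = i <;> simp [binj, h]

theorem QB.binj_sub (i : Fin t) (y y' : Fin 2 → F) : binj i (y - y') = binj i y - binj i y' := by
  funext p
  by_cases h : p.1 = i <;> simp [binj, h]

theorem QB.binj_smul (i : Fin t) (c : F) (y : Fin 2 → F) : binj i (c • y) = c • binj i y := by
  funext p
  by_cases h : p.1 = i <;> simp [binj, h]

theorem QB.binj_zero (i : Fin t) : binj i (0 : Fin 2 → F) = 0 := by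
  funext p
  by_cases h : p.1 = i <;> simp [binj, h]

theorem QB.binj_eq_zero {i : Fin t} {y : Fin 2 → F} : binj i y = 0 ↔ y = 0 := by
  constructor
  · intro h
    have h1 := congrArg (bproj i) h
    rw [bproj_binj] at h1
    exact h1
  · rintro rfl
    exact QB.binj_zero i

/-- every vector is the sum of its components -/
theorem QB.eq_sum (x : Fin t × Fin 2 → F) : x = ∑ i : Fin t, binj i (bproj i x) := by
  funext p
  obtain ⟨i, j⟩ := p
  rw [Finset.sum_apply, Finset.sum_eq_single i]
  · simp [binj, bproj]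
  · intro i' _ hi'
    have : ¬ (i = i') := fun h => hi' h.symm
    simp [binj, this]
  · intro h; exact absurd (Finset.mem_univ i) h

theorem QB.ext {x x' : Fin t × Fin 2 → F} (h : ∀ i, bproj i x = bproj i x') : x = x' := by
  funext p
  obtain ⟨i, j⟩ := p
  exact congrFun (h i) j

theorem QB.mem_Dblk_iff {i : Fin t} {x : Fin t × Fin 2 → F} :
    x ∈ Dblk F t 2 i ↔ ∀ i', i' ≠ i → bproj i' x = 0 := by
  rw [mem_Dblk]
  constructor
  · intro h i' hi'
    funext j
    exact h i' j hi'
  · intro h i' j hi'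
    exact congrFun (h i' hi') j

theorem QB.mem_Dblk_iff' {i : Fin t} {x : Fin t × Fin 2 → F} :
    x ∈ Dblk F t 2 i ↔ x = binj i (bproj i x) := by
  constructor
  · intro hx
    apply QB.ext
    intro i'
    by_cases h : i' = i
    · subst h; rw [bproj_binj]
    · rw [bproj_binj_ne h, QB.mem_Dblk_iff.mp hx i' h]
  · intro h
    rw [h]
    exact binj_mem i _

theorem QB.Q_binj (bm : BM0 Q q) (i : Fin t) (y : Fin 2 → F) : Q (binj i y) = q y := by
  rw [bm.sum, Finset.sum_eq_single i]
  · rw [bproj_binj]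
  · intro i' _ hi'
    rw [bproj_binj_ne hi', map_zero]
  · intro h; exact absurd (Finset.mem_univ i) h

theorem QB.B_eq (bm : BM0 Q q) (x x' : Fin t × Fin 2 → F) :
    B Q x x' = ∑ i : Fin t, QuadraticMap.polar ⇑q (bproj i x) (bproj i x') := by
  show QuadraticMap.polar ⇑Q x x' = _
  unfold QuadraticMap.polar
  rw [bm.sum, bm.sum, bm.sum, ← Finset.sum_sub_distrib, ← Finset.sum_sub_distrib]
  rfl

theorem QB.B_binj_left (bm : BM0 Q q) (i : Fin t) (y : Fin 2 → F) (x : Fin t × Fin 2 → F) :
    B Q (binj i y) x = QuadraticMap.polar ⇑q y (bproj i x) := by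
  rw [QB.B_eq bm, Finset.sum_eq_single i]
  · rw [bproj_binj]
  · intro i' _ hi'
    rw [bproj_binj_ne hi', QuadraticMap.polar_zero_left]
  · intro h; exact absurd (Finset.mem_univ i) h

theorem QB.B_binj_right (bm : BM0 Q q) (i : Fin t) (y : Fin 2 → F) (x : Fin t × Fin 2 → F) :
    B Q x (binj i y) = QuadraticMap.polar ⇑q (bproj i x) y := by
  rw [QB.B_eq bm, Finset.sum_eq_single i]
  · rw [bproj_binj]
  · intro i' _ hi'
    rw [bproj_binj_ne hi', QuadraticMap.polar_zero_right]
  · intro h; exact absurd (Finset.mem_univ i) h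

theorem QB.B_binj_binj_ne (bm : BM0 Q q) {i j : Fin t} (h : i ≠ j) (y y' : Fin 2 → F) :
    B Q (binj i y) (binj j y') = 0 := by
  rw [QB.B_binj_left bm, bproj_binj_ne h, QuadraticMap.polar_zero_right]

/-- a nonzero vector of the anisotropic plane has a partner -/
theorem QB.exists_polar_ne (bm : BM0 Q q) {y : Fin 2 → F} (hy : y ≠ 0) :
    ∃ y' : Fin 2 → F, QuadraticMap.polar ⇑q y y' = 1 := by
  have h : ∃ z, QuadraticMap.polar ⇑q y z ≠ 0 := by
    by_contra hcon
    push_neg at hcon
    apply hy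
    apply bm.ndq.1 y
    intro z
    rw [QuadraticMap.polarBilin_apply_apply]
    exact hcon z
  obtain ⟨z, hz⟩ := h
  refine ⟨(QuadraticMap.polar ⇑q y z)⁻¹ • z, ?_⟩
  rw [QuadraticMap.polar_smul_right, smul_eq_mul, inv_mul_cancel₀ hz]

end Cfsg.Agent.K2P
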