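import Mathlib
import Cfsg.Agent.Helper18.K2P.Defs
import Cfsg.Agent.Helper17.OC2TBLKDEC

set_option autoImplicit false
set_option linter.unusedSectionVars false
set_option linter.unusedVariables false

/-! # S5694, `k = 2` minus blocks (designer helper7), chapter G, piece STAB (helper27): criteria for `StabD`. -/

namespace Cfsg.Agent.K2P

open Matrix Cfsg.Agent.OC2P Cfsg.Agent.Helper28.Sg Cfsg.Agent.Helper28.Spin
  Cfsg.Agent.Helper12.OrthGen Cfsg.Agent.K2M

variable {F : Type*} [Field F] {t : ℕ} {Q : QuadraticForm F (Fin t × Fin 2 → F)}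
  {q : QuadraticForm F (Fin 2 → F)}

namespace STAB

theorem aux_inj (g : OG Q) : Function.Injective (Matrix.toLin' (mt Q g)) := by
  intro x y hxy
  rw [Matrix.toLin'_apply, Matrix.toLin'_apply] at hxy
  have h := congrArg (fun z => mt Q g⁻¹ *ᵥ z) hxy
  simpa only [mt_inv_mulVec] using h

theorem aux_iff (g : OG Q) :
    StabD Q g ↔ ∃ σ : Equiv.Perm (Fin t), ∀ i,
      (Dblk F t 2 i).map (Matrix.toLin' (mt Q g)) = Dblk F t 2 (σ i) := Iff.rfl

/-- an isometry mapping block `i` into block `σ i` for a permutation `σ` permutes the blocks -/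
theorem aux_of_perm (g : OG Q) (σ : Equiv.Perm (Fin t))
    (h : ∀ (i : Fin t) (y : Fin 2 → F), mt Q g *ᵥ binj i y ∈ Dblk F t 2 (σ i)) : StabD Q g := by
  rw [aux_iff]
  refine ⟨σ, fun i => ?_⟩
  have hle : (Dblk F t 2 i).map (Matrix.toLin' (mt Q g)) ≤ Dblk F t 2 (σ i) := by
    rintro _ ⟨x, hx, rfl⟩
    rw [Matrix.toLin'_apply, ← BLKDEC.binj_bproj hx]
    exact h i _
  apply Submodule.eq_of_le_of_finrank_eq hle
  rw [BLKDEC.finrank_Dblk, ← (Submodule.equivMapOfInjective _ (aux_inj g) _).finrank_eq,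
    BLKDEC.finrank_Dblk]

/-- the polar form of `Q` in components -/
theorem aux_B_eq (bm : BM0 Q q) (x x' : Fin t × Fin 2 → F) :
    QuadraticMap.polar ⇑Q x x' = ∑ i : Fin t, QuadraticMap.polar ⇑q (bproj i x) (bproj i x') := by
  simp only [QuadraticMap.polar, bm.sum, Finset.sum_sub_distrib]
  rfl

theorem aux_B_ne (bm : BM0 Q q) {i j : Fin t} (h : i ≠ j) (y y' : Fin 2 → F) :
    QuadraticMap.polar ⇑Q (binj i y) (binj j y') = 0 := by
  rw [aux_B_eq bm]
  apply Finset.sum_eq_zero
  intro m _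
  by_cases hm : m = i
  · subst hm
    rw [bproj_binj_ne h, QuadraticMap.polar_zero_right]
  · rw [bproj_binj_ne hm, QuadraticMap.polar_zero_left]

end STAB

/-- an isometry mapping every block into a block permutes the blocks (injective on indices since `g` is
invertible and blocks are independent; equality of images by dimension or by applying the same to `g⁻¹`) -/
theorem STAB.of_forall (bm : BM0 Q q) (g : OG Q)
    (h : ∀ i : Fin t, ∃ j : Fin t, ∀ y : Fin 2 → F, mt Q g *ᵥ binj i y ∈ Dblk F t 2 j)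
    (h' : ∀ i : Fin t, ∃ j : Fin t, ∀ y : Fin 2 → F, mt Q g⁻¹ *ᵥ binj i y ∈ Dblk F t 2 j) :
    StabD Q g := by
  choose f hf using h
  choose f' hf' using h'
  have hff : ∀ i, f' (f i) = i := by
    intro i
    by_contra hne
    set y0 : Fin 2 → F := fun _ => 1 with hy0
    have hx := hf i y0
    have h1 := hf' (f i) (bproj (f i) (mt Q g *ᵥ binj i y0))
    rw [BLKDEC.binj_bproj hx, mt_inv_mulVec] at h1
    have h2 := h1 i 0 (Ne.symm hne)
    simp [binj, hy0] at h2
  have hinj : Function.Injective f := Function.LeftInverse.injective hff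
  have hbij : Function.Bijective f := Finite.injective_iff_bijective.mp hinj
  exact STAB.aux_of_perm g (Equiv.ofBijective f hbij) (fun i y => hf i y)

theorem STAB.iff (bm : BM0 Q q) (g : OG Q) :
    StabD Q g ↔ ∃ σ : Equiv.Perm (Fin t), ∀ (i : Fin t) (y : Fin 2 → F),
      mt Q g *ᵥ binj i y ∈ Dblk F t 2 (σ i) := by
  constructor
  · intro h
    rw [STAB.aux_iff] at h
    obtain ⟨σ, hσ⟩ := h
    refine ⟨σ, fun i y => ?_⟩
    rw [← hσ i]
    exact ⟨binj i y, binj_mem i y, by rw [Matrix.toLin'_apply]⟩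
  · rintro ⟨σ, hσ⟩
    exact STAB.aux_of_perm g σ hσ

theorem STAB.mul {g h : OG Q} (hg : StabD Q g) (hh : StabD Q h) : StabD Q (g * h) := by
  unfold StabD at *
  rw [Subgroup.coe_mul]
  exact Subgroup.mul_mem _ hg hh

theorem STAB.inv {g : OG Q} (hg : StabD Q g) : StabD Q g⁻¹ := by
  unfold StabD at *
  rw [Subgroup.coe_inv]
  exact Subgroup.inv_mem _ hg

theorem STAB.one : StabD Q (1 : OG Q) := by
  unfold StabD
  rw [Subgroup.coe_one]
  exact Subgroup.one_mem _

/-- the reflection in a block vector stabilises every block -/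
theorem STAB.reflO (bm : BM0 Q q) (i : Fin t) (y : Fin 2 → F) (hv : Q (binj i y) ≠ 0) :
    StabD Q (reflO Q (binj i y) hv) := by
  refine STAB.aux_of_perm _ 1 (fun i' y' => ?_)
  have hm : mt Q (Cfsg.Agent.Helper28.Spin.reflO Q (binj i y) hv)
      = Cfsg.reflectionMatrix ⇑Q (binj i y) := rfl
  rw [hm, refl_mulVec, Equiv.Perm.one_apply]
  by_cases h : i' = i
  · subst h
    exact Submodule.sub_mem _ (binj_mem i' y') (Submodule.smul_mem _ _ (binj_mem i' y))
  · rw [STAB.aux_B_ne bm (Ne.symm h), mul_zero, zero_smul, sub_zero]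
    exact binj_mem i' y'

end Cfsg.Agent.K2P
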