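import Mathlib
import Cfsg.Agent.Helper18.K2P.Defs
import Cfsg.Agent.Helper18.K2P.QB
import Cfsg.Agent.Helper18.K2P.STAB

set_option autoImplicit false
set_option linter.unusedSectionVars false
set_option linter.unusedVariables false

/-! # S5694, `k = 2` minus blocks (designer helper7), piece OMEGA (helper19): membership in `Ω`. -/

namespace Cfsg.Agent.K2P

open Matrix Cfsg.Agent.OC2P Cfsg.Agent.Helper28.Sg Cfsg.Agent.Helper28.Spin
  Cfsg.Agent.Helper12.OrthGen Cfsg.Agent.K2M

variable {F : Type*} [Field F] {t : ℕ} {Q : QuadraticForm F (Fin t × Fin 2 → F)}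
  {q : QuadraticForm F (Fin 2 → F)}

/-- two reflections whose norms have a square product -/
theorem OMEGA.refl2 [Fintype F] (bm : BM0 Q q) (ht : 3 ≤ t) (a b : Fin t × Fin 2 → F) (ha : Q a ≠ 0)
    (hb : Q b ≠ 0) (hsq : IsSquare (Q a * Q b)) : reflO Q a ha * reflO Q b hb ∈ Cfsg.Omega F ⇑Q := by
  by_cases h2 : (2 : F) = 0
  · -- characteristic two
    have hcard : Fintype.card F ≠ 2 ∨ Fintype.card (Fin t × Fin 2) ≠ 4 := by
      right
      rw [Fintype.card_prod, Fintype.card_fin, Fintype.card_fin]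
      omega
    exact reflO_mul_reflO_mem Q h2 bm.ndQ hcard a b ha hb
  · -- odd characteristic: scale `b` to the norm of `a`
    obtain ⟨s, hs⟩ := hsq
    have hs0 : s ≠ 0 := by
      intro h0
      rw [h0, mul_zero] at hs
      exact (mul_ne_zero ha hb) hs
    set c : F := Q a / s with hc
    have hc0 : c ≠ 0 := div_ne_zero ha hs0
    have hQcb : Q (c • b) = Q a := by
      rw [QuadraticMap.map_smul, smul_eq_mul, hc]
      field_simp
      rw [hs]; ring
    have hb' : Q (c • b) ≠ 0 := by rw [hQcb]; exact ha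
    rw [← reflO_smul Q b hb hc0 hb']
    obtain ⟨h, hh⟩ := exists_move Q h2 hQcb.symm ha
    exact reflO_mul_of_move Q h a (c • b) ha hb' hh

/-- two block reflections in different (or equal) blocks, norms with square product, in `H` -/
theorem OMEGA.pair_mem [Fintype F] (bm : BM0 Q q) (ht : 3 ≤ t) {H : Subgroup (OG Q)} (hH : HasMO H) (i j : Fin t)
    (y y' : Fin 2 → F) (hy : Q (binj i y) ≠ 0) (hy' : Q (binj j y') ≠ 0) (hsq : IsSquare (q y * q y')) :
    reflO Q (binj i y) hy * reflO Q (binj j y') hy' ∈ H := by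
  apply hH
  · apply OMEGA.refl2 bm ht
    rw [QB.Q_binj bm, QB.Q_binj bm]
    exact hsq
  · exact STAB.mul (STAB.reflO bm i y hy) (STAB.reflO bm j y' hy')

/-- a rotation of block `i`, in `H` -/
theorem OMEGA.rot_mem [Fintype F] (bm : BM0 Q q) (ht : 3 ≤ t) {H : Subgroup (OG Q)} (hH : HasMO H) (i : Fin t)
    (y y' : Fin 2 → F) (hy : Q (binj i y) ≠ 0) (hy' : Q (binj i y') ≠ 0) (hsq : IsSquare (q y * q y')) :
    reflO Q (binj i y) hy * reflO Q (binj i y') hy' ∈ H :=
  OMEGA.pair_mem bm ht hH i i y y' hy hy' hsq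

end Cfsg.Agent.K2P
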