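import Mathlib
import Cfsg.Agent.Helper18.K2P.Defs
import Cfsg.Agent.Helper17.OC2TBLKDEC
import Cfsg.Agent.Helper18.K2P.STAB

set_option autoImplicit false
set_option linter.unusedSectionVars false
set_option linter.unusedVariables false

/-! # S5694, `k = 2` minus blocks (designer helper7), chapter G, piece PERM (helper27): block permutations. -/

namespace Cfsg.Agent.K2P

open Matrix Cfsg.Agent.OC2P Cfsg.Agent.Helper28.Sg Cfsg.Agent.Helper28.Spin
  Cfsg.Agent.Helper12.OrthGen Cfsg.Agent.K2M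
open scoped commutatorElement

variable {F : Type*} [Field F] {t : ℕ} {Q : QuadraticForm F (Fin t × Fin 2 → F)}
  {q : QuadraticForm F (Fin 2 → F)}

namespace PERM

/-- the permutation of the index set induced by `π⁻¹` on the blocks -/
def aux_e (π : Equiv.Perm (Fin t)) : Equiv.Perm (Fin t × Fin 2) :=
  Equiv.prodCongr π.symm (Equiv.refl (Fin 2))

/-- the matrix of the block permutation `x ↦ (p ↦ x (π⁻¹ p.1, p.2))` -/
def aux_M (F : Type*) [Field F] (π : Equiv.Perm (Fin t)) : Matrix (Fin t × Fin 2) (Fin t × Fin 2) F :=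
  (aux_e π).permMatrix F

theorem aux_M_mulVec (π : Equiv.Perm (Fin t)) (x : Fin t × Fin 2 → F) :
    aux_M F π *ᵥ x = fun p => x (π.symm p.1, p.2) := by
  unfold aux_M
  rw [Matrix.permMatrix_mulVec]
  rfl

theorem aux_M_binj (π : Equiv.Perm (Fin t)) (i : Fin t) (y : Fin 2 → F) :
    aux_M F π *ᵥ binj i y = binj (π i) y := by
  rw [aux_M_mulVec]
  funext p
  simp only [binj]
  by_cases h : p.1 = π i
  · rw [if_pos h, if_pos (by rw [h, Equiv.symm_apply_apply])]
  · rw [if_neg h, if_neg (fun h' => h (by rw [← h', Equiv.apply_symm_apply]))]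

theorem aux_M_mul (π : Equiv.Perm (Fin t)) : aux_M F π * aux_M F π.symm = 1 := by
  apply Cfsg.Agent.Helper28.Spin.matrix_ext_mulVec
  intro x
  rw [← Matrix.mulVec_mulVec, aux_M_mulVec, aux_M_mulVec, Matrix.one_mulVec]
  funext p
  simp

theorem aux_bproj_M (π : Equiv.Perm (Fin t)) (x : Fin t × Fin 2 → F) (i : Fin t) :
    bproj i (aux_M F π *ᵥ x) = bproj (π.symm i) x := by
  rw [aux_M_mulVec]
  rfl

theorem aux_M_isom (bm : BM0 Q q) (π : Equiv.Perm (Fin t)) (x : Fin t × Fin 2 → F) :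
    Q (aux_M F π *ᵥ x) = Q x := by
  rw [bm.sum, bm.sum]
  simp only [aux_bproj_M]
  exact Equiv.sum_comp π.symm (fun i => q (bproj i x))

/-- the block permutation as an isometry -/
noncomputable def aux_g (bm : BM0 Q q) (π : Equiv.Perm (Fin t)) : OG Q :=
  ⟨⟨aux_M F π, aux_M F π.symm, aux_M_mul π, by
      have h := aux_M_mul (F := F) π.symm
      rwa [Equiv.symm_symm] at h⟩, by
    rw [Cfsg.Agent.Helper28.IsoTransport.mem_isometryGroup_iff]
    intro u
    exact aux_M_isom bm π u⟩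

theorem aux_g_mt (bm : BM0 Q q) (π : Equiv.Perm (Fin t)) : mt Q (aux_g bm π) = aux_M F π := rfl

theorem aux_g_binj (bm : BM0 Q q) (π : Equiv.Perm (Fin t)) (i : Fin t) (y : Fin 2 → F) :
    mt Q (aux_g bm π) *ᵥ binj i y = binj (π i) y := by
  rw [aux_g_mt, aux_M_binj]

theorem aux_g_stab (bm : BM0 Q q) (π : Equiv.Perm (Fin t)) : StabD Q (aux_g bm π) := by
  refine STAB.aux_of_perm _ π (fun i y => ?_)
  rw [aux_g_binj]
  exact binj_mem _ _

/-- action of the inverse of a block permutation -/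
theorem aux_inv_binj (g : OG Q) (π : Equiv.Perm (Fin t))
    (h : ∀ (m : Fin t) (y : Fin 2 → F), mt Q g *ᵥ binj m y = binj (π m) y) (m : Fin t)
    (y : Fin 2 → F) : mt Q g⁻¹ *ᵥ binj m y = binj (π.symm m) y := by
  have h1 := h (π.symm m) y
  rw [Equiv.apply_symm_apply] at h1
  rw [← h1, mt_inv_mulVec]

/-- action of a product of block permutations -/
theorem aux_mul_binj (g g' : OG Q) (π π' : Equiv.Perm (Fin t))
    (h : ∀ (m : Fin t) (y : Fin 2 → F), mt Q g *ᵥ binj m y = binj (π m) y)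
    (h' : ∀ (m : Fin t) (y : Fin 2 → F), mt Q g' *ᵥ binj m y = binj (π' m) y) (m : Fin t)
    (y : Fin 2 → F) : mt Q (g * g') *ᵥ binj m y = binj ((π * π') m) y := by
  rw [mt_mul_mulVec, h', h, Equiv.Perm.mul_apply]

/-- the three-cycle as a commutator of transpositions -/
theorem aux_cycle_eq {i j l : Fin t} (hij : i ≠ j) (hil : i ≠ l) (hjl : j ≠ l) (m : Fin t) :
    (Equiv.swap j l * Equiv.swap i j * (Equiv.swap j l).symm * (Equiv.swap i j).symm) m
      = Equiv.swap i j (Equiv.swap j l m) := by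
  simp only [Equiv.Perm.mul_apply, Equiv.symm_swap]
  by_cases h1 : m = i
  · subst h1
    simp [Equiv.swap_apply_of_ne_of_ne, hij, hil, hil.symm, hjl.symm]
  · by_cases h2 : m = j
    · subst h2
      simp [Equiv.swap_apply_of_ne_of_ne, hij, hil, hil.symm, hjl.symm]
    · by_cases h3 : m = l
      · subst h3
        simp [Equiv.swap_apply_of_ne_of_ne, hij, hil, hil.symm, hjl.symm]
      · simp [Equiv.swap_apply_of_ne_of_ne, h1, h2, h3]

end PERM

/-- the block permutation `x ↦ (p ↦ x (π⁻¹ p.1, p.2))` as an isometry -/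
theorem PERM.exists (bm : BM0 Q q) (π : Equiv.Perm (Fin t)) :
    ∃ g : OG Q, StabD Q g ∧ ∀ (i : Fin t) (y : Fin 2 → F), mt Q g *ᵥ binj i y = binj (π i) y :=
  ⟨PERM.aux_g bm π, PERM.aux_g_stab bm π, PERM.aux_g_binj bm π⟩

/-- even block permutations (here: products of two transpositions / 3-cycles, as commutators) lie in `H` -/
theorem PERM.cycle3 (bm : BM0 Q q) {H : Subgroup (OG Q)} (hH : HasMO H) {i j l : Fin t} (hij : i ≠ j)
    (hil : i ≠ l) (hjl : j ≠ l) :
    ∃ g ∈ H, StabD Q g ∧ ∀ (m : Fin t) (y : Fin 2 → F),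
      mt Q g *ᵥ binj m y = binj (Equiv.swap i j (Equiv.swap j l m)) y := by
  set a := PERM.aux_g bm (Equiv.swap j l) with ha
  set b := PERM.aux_g bm (Equiv.swap i j) with hb
  have hsa : StabD Q a := PERM.aux_g_stab bm _
  have hsb : StabD Q b := PERM.aux_g_stab bm _
  have hstab : StabD Q ⁅a, b⁆ := by
    rw [commutatorElement_def]
    exact STAB.mul (STAB.mul (STAB.mul hsa hsb) (STAB.inv hsa)) (STAB.inv hsb)
  refine ⟨⁅a, b⁆, hH _ (comm_mem_Omega Q a b) hstab, hstab, fun m y => ?_⟩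
  rw [commutatorElement_def, mt_mul_mulVec, mt_mul_mulVec, mt_mul_mulVec,
    PERM.aux_inv_binj b _ (PERM.aux_g_binj bm _), PERM.aux_inv_binj a _ (PERM.aux_g_binj bm _),
    PERM.aux_g_binj, PERM.aux_g_binj, ← PERM.aux_cycle_eq hij hil hjl m]
  rfl

/-- block permutation: general action on components -/
theorem PERM.bproj (g : OG Q) (π : Equiv.Perm (Fin t))
    (h : ∀ (m : Fin t) (y : Fin 2 → F), mt Q g *ᵥ binj m y = binj (π m) y) (x : Fin t × Fin 2 → F)
    (m : Fin t) : bproj (π m) (mt Q g *ᵥ x) = bproj m x := by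
  conv_lhs => rw [BLKDEC.eq_sum x, Matrix.mulVec_sum]
  simp only [h]
  have hsum : OC2P.bproj (π m) (∑ i : Fin t, binj (π i) (OC2P.bproj i x))
      = ∑ i : Fin t, OC2P.bproj (π m) (binj (π i) (OC2P.bproj i x)) := by
    funext j
    simp only [OC2P.bproj, Finset.sum_apply]
  rw [hsum, Finset.sum_eq_single m]
  · rw [bproj_binj]
  · intro i _ hi
    exact bproj_binj_ne (fun h' => hi (π.injective h').symm) _
  · intro h'; exact absurd (Finset.mem_univ m) h'

namespace PERM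

/-- an element outside a set of at most three elements -/
theorem aux_exists_ne (ht : 4 ≤ t) (a b c : Fin t) : ∃ k : Fin t, k ≠ a ∧ k ≠ b ∧ k ≠ c := by
  by_contra hcon
  push Not at hcon
  have hsub : (Finset.univ : Finset (Fin t)) ⊆ {a, b, c} := by
    intro k _
    by_cases h1 : k = a
    · simp [h1]
    · by_cases h2 : k = b
      · simp [h2]
      · have := hcon k h1 h2
        simp [this]
  have hcard := Finset.card_le_card hsub
  have h3 : ({a, b, c} : Finset (Fin t)).card ≤ 3 := Finset.card_le_three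
  rw [Finset.card_univ, Fintype.card_fin] at hcard
  omega

/-- an element of `H` moving block `a` to block `a'` and fixing block `b` -/
theorem aux_move_one (bm : BM0 Q q) (ht : 4 ≤ t) {H : Subgroup (OG Q)} (hH : HasMO H) {a a' b : Fin t}
    (hab : a ≠ b) (hab' : a' ≠ b) :
    ∃ (g : OG Q) (π : Equiv.Perm (Fin t)), g ∈ H ∧ StabD Q g ∧ π a = a' ∧ π b = b ∧
      ∀ (m : Fin t) (y : Fin 2 → F), mt Q g *ᵥ binj m y = binj (π m) y := by
  by_cases haa : a = a'
  · subst haa
    refine ⟨1, 1, H.one_mem, STAB.one, rfl, rfl, fun m y => ?_⟩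
    rw [mt_one_mulVec, Equiv.Perm.one_apply]
  · obtain ⟨k, hka, hka', hkb⟩ := aux_exists_ne ht a a' b
    obtain ⟨g, hgH, hgS, hg⟩ := PERM.cycle3 bm hH haa (Ne.symm hka) (Ne.symm hka')
    refine ⟨g, Equiv.swap a a' * Equiv.swap a' k, hgH, hgS, ?_, ?_, fun m y => ?_⟩
    · rw [Equiv.Perm.mul_apply, Equiv.swap_apply_of_ne_of_ne haa (Ne.symm hka), Equiv.swap_apply_left]
    · rw [Equiv.Perm.mul_apply, Equiv.swap_apply_of_ne_of_ne (Ne.symm hab') (Ne.symm hkb),
        Equiv.swap_apply_of_ne_of_ne (Ne.symm hab) (Ne.symm hab')]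
    · rw [hg, Equiv.Perm.mul_apply]

end PERM

/-- for `t ≥ 4`: an element of `H` moving the pair of blocks `(i, j)` to `(i', j')` and acting as a block
permutation -/
theorem PERM.move_pair (bm : BM0 Q q) (ht : 4 ≤ t) {H : Subgroup (OG Q)} (hH : HasMO H) {i j i' j' : Fin t}
    (hij : i ≠ j) (hij' : i' ≠ j') :
    ∃ (g : OG Q) (π : Equiv.Perm (Fin t)), g ∈ H ∧ StabD Q g ∧ π i = i' ∧ π j = j' ∧
      ∀ (m : Fin t) (y : Fin 2 → F), mt Q g *ᵥ binj m y = binj (π m) y := by
  obtain ⟨k, hki, hki', -⟩ := PERM.aux_exists_ne ht i i' i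
  obtain ⟨g1, π1, hg1H, hg1S, h1i, -, hg1⟩ := PERM.aux_move_one bm ht hH (Ne.symm hki) (Ne.symm hki')
  have hj1 : π1 j ≠ i' := by
    intro h'
    rw [← h1i] at h'
    exact hij (π1.injective h').symm
  obtain ⟨g2, π2, hg2H, hg2S, h2j, h2i, hg2⟩ := PERM.aux_move_one bm ht hH hj1 (Ne.symm hij')
  refine ⟨g2 * g1, π2 * π1, H.mul_mem hg2H hg1H, STAB.mul hg2S hg1S, ?_, ?_, ?_⟩
  · rw [Equiv.Perm.mul_apply, h1i, h2i]
  · rw [Equiv.Perm.mul_apply, h2j]
  · exact PERM.aux_mul_binj g2 g1 π2 π1 hg2 hg1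

end Cfsg.Agent.K2P
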