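import Mathlib
import Cfsg.Agent.Helper18.K2P.Defs
import Cfsg.Agent.Helper18.K2P.Defs2
import Cfsg.Agent.Helper18.K2P.QB
import Cfsg.Agent.Helper18.K2P.RACT
import Cfsg.Agent.Helper18.K2P.STAB
import Cfsg.Agent.Helper18.K2P.OMEGA
import Cfsg.Agent.Helper18.K2P.BASIS
import Cfsg.Agent.Helper16.K2MINVSQ3
import Cfsg.Agent.Helper12.K2PAYNOTH
import Cfsg.Agent.Helper25.K2PALINE3
import Cfsg.Agent.Helper15.K2PBLOCKINV

set_option autoImplicit false
set_option linter.unusedSectionVars false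
set_option linter.unusedVariables false

/-! # K2P, chapter A, assembly: an element of `M` outside `StabD` gives a frame Siegel element or a non-block `InA` vector. -/

namespace Cfsg.Agent.K2P

open Matrix Cfsg.Agent.OC2P Cfsg.Agent.Helper28.Sg Cfsg.Agent.Helper28.Spin
  Cfsg.Agent.Helper12.OrthGen Cfsg.Agent.K2M

variable {F : Type*} [Field F] [Fintype F] {t : ℕ} {Q : QuadraticForm F (Fin t × Fin 2 → F)}
  {q : QuadraticForm F (Fin 2 → F)} {e f : Fin 2 → F} {M : Subgroup (OG Q)}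

/-- a linear functional on the binary space has a nonzero kernel vector -/
theorem AMAIN.exists_ker (bp : BP Q q e f) (lam : (Fin 2 → F) →ₗ[F] F) :
    ∃ z : Fin 2 → F, z ≠ 0 ∧ lam z = 0 := by
  by_cases h : lam e = 0
  · exact ⟨e, BASIS.e_ne bp, h⟩
  · refine ⟨lam f • e - lam e • f, ?_, ?_⟩
    · intro h0
      have h1 : QuadraticMap.polar ⇑q (lam f • e + (-lam e) • f) e = -lam e :=
        BASIS.polar_comb_e bp _ _
      rw [show lam f • e + (-lam e) • f = lam f • e - lam e • f by module, h0] at h1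
      simp at h1
      exact h h1
    · rw [map_sub, map_smul, map_smul]; simp [mul_comm]

/-- the action of a product of two reflections in perpendicular vectors -/
theorem AMAIN.two_refl {u u' : Fin t × Fin 2 → F} (hu : Q u ≠ 0) (hu' : Q u' ≠ 0)
    (huu' : B Q u u' = 0) (x : Fin t × Fin 2 → F) :
    mt Q (reflO Q u hu * reflO Q u' hu') *ᵥ x
      = x - ((Q u)⁻¹ * B Q u x) • u - ((Q u')⁻¹ * B Q u' x) • u' := by
  rw [mt_mul_mulVec, RACT.mulVec, RACT.mulVec]
  have h : B Q u (x - ((Q u')⁻¹ * B Q u' x) • u') = B Q u x := by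
    show QuadraticMap.polar ⇑Q u (x - ((Q u')⁻¹ * B Q u' x) • u') = _
    rw [QuadraticMap.polar_sub_right, QuadraticMap.polar_smul_right]
    show B Q u x - _ • B Q u u' = _
    rw [huu']; simp
  rw [h]
  module

/-- the core contradiction: two nonsingular block vectors of different blocks, same square class, whose images under
`m ∈ M ∖ StabD` have the same `c`-component -/
theorem AMAIN.pair_contra (bp : BP Q q e f) (ht : 3 ≤ t) (hq : 7 ≤ Fintype.card F) (hM : HasMO M)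
    (hS : ¬ SiegF Q q e f M) (hI : ∀ a, InA M a → IsBlk a) {m : OG Q} (hm : m ∈ M)
    (hmN : ¬ StabD Q m) (c i j : Fin t) (hij : i ≠ j) {b b' : Fin 2 → F} (hb : q b ≠ 0)
    (hb' : q b' ≠ 0) (hsq : IsSquare (q b * q b'))
    (hl : bproj c (mt Q m *ᵥ binj i b) = bproj c (mt Q m *ᵥ binj j b')) : False := by
  have bm := bp.toBM0
  have hb0 : b ≠ 0 := by rintro rfl; exact hb (map_zero q)
  have hQb : Q (binj i b) ≠ 0 := by rw [QB.Q_binj bm]; exact hb
  have hQb' : Q (binj j b') ≠ 0 := by rw [QB.Q_binj bm]; exact hb'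
  set u := mt Q m *ᵥ binj i b with hu_def
  set u' := mt Q m *ᵥ binj j b' with hu'_def
  have hu : Q u ≠ 0 := by rw [hu_def, Q_isom]; exact hQb
  have hu' : Q u' ≠ 0 := by rw [hu'_def, Q_isom]; exact hQb'
  have huu' : B Q u u' = 0 := by
    rw [hu_def, hu'_def, B_isom]; exact QB.B_binj_binj_ne bm hij b b'
  have hfull : ∀ l, bproj l u ≠ 0 := fun l =>
    A.BLOCKINV bp ht hq hM hS hI hm hmN l i hb0
  have hpair : reflO Q (binj i b) hQb * reflO Q (binj j b') hQb' ∈ M :=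
    OMEGA.pair_mem bm ht hM i j b b' hQb hQb' hsq
  have hy : reflO Q u hu * reflO Q u' hu' ∈ M := by
    have e1 : reflO Q u hu = m * reflO Q (binj i b) hQb * m⁻¹ := reflO_conj Q m (binj i b) hQb hu
    have e2 : reflO Q u' hu' = m * reflO Q (binj j b') hQb' * m⁻¹ :=
      reflO_conj Q m (binj j b') hQb' hu'
    rw [e1, e2]
    have : m * reflO Q (binj i b) hQb * m⁻¹ * (m * reflO Q (binj j b') hQb' * m⁻¹)
        = m * (reflO Q (binj i b) hQb * reflO Q (binj j b') hQb') * m⁻¹ := by group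
    rw [this]
    exact M.mul_mem (M.mul_mem hm hpair) (M.inv_mem hm)
  have hind : ∀ c₀ : F, u ≠ c₀ • u' := by
    intro c₀ h
    have h1 : mt Q m⁻¹ *ᵥ u = c₀ • (mt Q m⁻¹ *ᵥ u') := by rw [h, Matrix.mulVec_smul]
    rw [hu_def, hu'_def, mt_inv_mulVec, mt_inv_mulVec] at h1
    have h2 := congrArg (bproj i) h1
    rw [bproj_binj, QB.bproj_smul, bproj_binj_ne hij] at h2
    exact hb0 (by rw [h2]; simp)
  have hyN : ¬ StabD Q (reflO Q u hu * reflO Q u' hu') :=
    A.YNOTH bp ht hu hu' huu' hind hfull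
  -- a block `c' ≠ c`
  obtain ⟨c', hc'⟩ : ∃ c' : Fin t, c' ≠ c := by
    by_cases h0 : c = ⟨0, by omega⟩
    · exact ⟨⟨1, by omega⟩, by rw [h0]; intro h; simp [Fin.ext_iff] at h⟩
    · exact ⟨⟨0, by omega⟩, fun h => h0 h.symm⟩
  -- the functional
  let lam : (Fin 2 → F) →ₗ[F] F :=
    { toFun := fun z => (Q u)⁻¹ * B Q u (binj c' z) + (Q u')⁻¹ * B Q u' (binj c' z)
      map_add' := by
        intro z z'
        show (Q u)⁻¹ * QuadraticMap.polar ⇑Q u (binj c' (z + z'))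
          + (Q u')⁻¹ * QuadraticMap.polar ⇑Q u' (binj c' (z + z')) = _
        rw [QB.binj_add, QuadraticMap.polar_add_right, QuadraticMap.polar_add_right]
        show _ = (Q u)⁻¹ * QuadraticMap.polar ⇑Q u (binj c' z)
          + (Q u')⁻¹ * QuadraticMap.polar ⇑Q u' (binj c' z)
          + ((Q u)⁻¹ * QuadraticMap.polar ⇑Q u (binj c' z')
          + (Q u')⁻¹ * QuadraticMap.polar ⇑Q u' (binj c' z'))
        ring
      map_smul' := by
        intro a z
        show (Q u)⁻¹ * QuadraticMap.polar ⇑Q u (binj c' (a • z))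
          + (Q u')⁻¹ * QuadraticMap.polar ⇑Q u' (binj c' (a • z)) = _
        rw [QB.binj_smul, QuadraticMap.polar_smul_right, QuadraticMap.polar_smul_right]
        show _ = a • ((Q u)⁻¹ * QuadraticMap.polar ⇑Q u (binj c' z)
          + (Q u')⁻¹ * QuadraticMap.polar ⇑Q u' (binj c' z))
        simp only [smul_eq_mul]
        ring }
  obtain ⟨z, hz0, hz⟩ := AMAIN.exists_ker bp lam
  have hz' : (Q u)⁻¹ * B Q u (binj c' z) + (Q u')⁻¹ * B Q u' (binj c' z) = 0 := hz
  refine A.BLOCKINV bp ht hq hM hS hI hy hyN c c' hz0 ?_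
  rw [AMAIN.two_refl hu hu' huu', QB.bproj_sub, QB.bproj_sub, QB.bproj_smul, QB.bproj_smul,
    bproj_binj_ne hc'.symm, ← hl]
  have : ((Q u')⁻¹ * B Q u' (binj c' z)) = -((Q u)⁻¹ * B Q u (binj c' z)) := by
    linear_combination hz'
  rw [this]
  module

/-- A-MAIN: the claim. -/
theorem A.main (bp : BP Q q e f) (ht : 3 ≤ t) (hq : 7 ≤ Fintype.card F) (hM : HasMO M) {g : OG Q}
    (hg : g ∈ M) (hgN : ¬ StabD Q g) :
    SiegF Q q e f M ∨ ∃ a, ¬ IsBlk a ∧ InA M a := by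
  by_contra hcon
  rw [not_or] at hcon
  obtain ⟨hS, hI'⟩ := hcon
  have hI : ∀ a, InA M a → IsBlk a := fun a ha => by
    by_contra h
    exact hI' ⟨a, h, ha⟩
  have bm := bp.toBM0
  let c : Fin t := ⟨0, by omega⟩
  let i₁ : Fin t := ⟨0, by omega⟩
  let i₂ : Fin t := ⟨1, by omega⟩
  let i₃ : Fin t := ⟨2, by omega⟩
  have h12 : i₁ ≠ i₂ := by intro h; simp [i₁, i₂, Fin.ext_iff] at h
  have h13 : i₁ ≠ i₃ := by intro h; simp [i₁, i₃, Fin.ext_iff] at h
  have h23 : i₂ ≠ i₃ := by intro h; simp [i₂, i₃, Fin.ext_iff] at h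
  let φ : Fin t → (Fin 2 → F) →ₗ[F] (Fin 2 → F) := fun i =>
    { toFun := fun y => bproj c (mt Q g *ᵥ binj i y)
      map_add' := by
        intro y y'
        rw [QB.binj_add, Matrix.mulVec_add, QB.bproj_add]
      map_smul' := by
        intro a y
        rw [QB.binj_smul, Matrix.mulVec_smul, QB.bproj_smul]; rfl }
  have hφ : ∀ i, Function.Injective (φ i) := by
    intro i
    rw [injective_iff_map_eq_zero]
    intro y hy
    by_contra h0
    exact A.BLOCKINV bp ht hq hM hS hI hg hgN c i h0 hy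
  obtain ⟨l, b₁, b₂, b₃, hl0, hb₁, hb₂, hb₃, e₁, e₂, e₃⟩ :=
    A.LINE3 bp hq (φ i₁) (φ i₂) (φ i₃) (hφ i₁) (hφ i₂) (hφ i₃)
  have e₁' : bproj c (mt Q g *ᵥ binj i₁ b₁) = l := e₁
  have e₂' : bproj c (mt Q g *ᵥ binj i₂ b₂) = l := e₂
  have e₃' : bproj c (mt Q g *ᵥ binj i₃ b₃) = l := e₃
  rcases SQ3.main hb₁ hb₂ hb₃ with h | h | h
  · exact AMAIN.pair_contra bp ht hq hM hS hI hg hgN c i₁ i₂ h12 hb₁ hb₂ h (e₁'.trans e₂'.symm)
  · exact AMAIN.pair_contra bp ht hq hM hS hI hg hgN c i₁ i₃ h13 hb₁ hb₃ h (e₁'.trans e₃'.symm)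
  · exact AMAIN.pair_contra bp ht hq hM hS hI hg hgN c i₂ i₃ h23 hb₂ hb₃ h (e₂'.trans e₃'.symm)

end Cfsg.Agent.K2P
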